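import Cfsg.Agent.Omega.BTwo.Cen

/-!
# OMEGA II.b, `W₁` and `W₂` abelian (#12886, THEOREM AB): the abstract part (1), (2)

`V` abelian with lines `R i`; `A i` (`= W₁(R i) = ⟨V^{N(R i)}⟩`) and `B i` (`= W₂(R i)`) are abelian normal subgroups of
`N(R i)`, `X = ⟨B i⟩`, `C(X) = 1`, `U i = C_{B i}(V)`, `U = ⟨U i⟩`, `K = C(U)`.
-/

set_option autoImplicit false

namespace Cfsg.Agent.Omega.AB

open Subgroup Cfsg.Agent.Omega.BTwo

variable {G : Type*} [Group G] {ι : Type*}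

/-- one half of the situation of THEOREM AB -/
structure Half (V : Subgroup G) (R A B : ι → Subgroup G) : Prop where
  R_le : ∀ i, R i ≤ V
  R_inf : ∀ i j, i ≠ j → R i ⊓ R j = ⊥
  R_sup : ∀ i j, i ≠ j → R i ⊔ R j = V
  R_ne : ∀ i, R i ≠ ⊥
  third : ∀ i j : ι, ∃ k, k ≠ i ∧ k ≠ j
  perm : ∀ g ∈ normalizer (V : Set G), ∀ i, ∃ j, cj g (R i) = R j
  conjA : ∀ g ∈ normalizer (V : Set G), ∀ i j, cj g (R i) = R j → cj g (A i) = A j
  conjB : ∀ g ∈ normalizer (V : Set G), ∀ i j, cj g (R i) = R j → cj g (B i) = B j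
  normA : ∀ i, normalizer (R i : Set G) ≤ normalizer (A i : Set G)
  normB : ∀ i, normalizer (R i : Set G) ≤ normalizer (B i : Set G)
  V_le : ∀ i, V ≤ A i
  R_le_B : ∀ i, R i ≤ B i
  A_comm : ∀ i, ∀ a ∈ A i, ∀ b ∈ A i, a * b = b * a
  B_comm : ∀ i, ∀ a ∈ B i, ∀ b ∈ B i, a * b = b * a
  A_le_Q : ∀ i, A i ≤ QQ (R i)
  B_le_Q : ∀ i, B i ≤ QQ (R i)
  QA : ∀ i, ∀ g ∈ QQ (R i), ∀ a ∈ A i, g * a * g⁻¹ * a⁻¹ ∈ R i
  QB : ∀ i, ∀ g ∈ QQ (R i), ∀ b ∈ B i, g * b * g⁻¹ * b⁻¹ ∈ R i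
  fact : ∀ i, ∀ g ∈ QQ (R i), (∀ u ∈ B i, u ∈ centralizer (V : Set G) → g * u = u * g) →
    ∃ v ∈ V, v⁻¹ * g ∈ centralizer (B i : Set G)
  trans : ∀ i j k, j ≠ i → k ≠ i → ∃ b ∈ B i, cj b (R j) = R k
  cenX : centralizer ((⨆ i, B i : Subgroup G) : Set G) = ⊥

/-- `U i = C_{B i}(V)` -/
def UB (V : Subgroup G) (B : ι → Subgroup G) (i : ι) : Subgroup G := B i ⊓ centralizer (V : Set G)

/-- `U = ⟨U i⟩` -/
def UT (V : Subgroup G) (B : ι → Subgroup G) : Subgroup G := ⨆ i, UB V B i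

/-- `X = ⟨B i⟩` -/
def XB (B : ι → Subgroup G) : Subgroup G := ⨆ i, B i

section

variable {V : Subgroup G} {R A B : ι → Subgroup G}

theorem UB_le_B (i : ι) : UB V B i ≤ B i := inf_le_left

theorem UB_le_cen (i : ι) : UB V B i ≤ centralizer (V : Set G) := inf_le_right

theorem UB_le_UT (i : ι) : UB V B i ≤ UT V B := le_iSup (fun i => UB V B i) i

theorem UT_le_cen : UT V B ≤ centralizer (V : Set G) := iSup_le fun i => UB_le_cen i

theorem B_le_X (i : ι) : B i ≤ XB B := le_iSup B i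

theorem cen_comm {H : Subgroup G} {x y : G} (hx : x ∈ centralizer (H : Set G)) (hy : y ∈ H) : x * y = y * x :=
  (mem_centralizer_iff.1 hx y hy).symm

theorem mem_cen {H : Subgroup G} {x : G} (h : ∀ y ∈ H, x * y = y * x) : x ∈ centralizer (H : Set G) :=
  mem_centralizer_iff.2 fun y hy => (h y hy).symm

theorem conj_of_comm {x y : G} (h : x * y = y * x) : x * y * x⁻¹ = y := by rw [h, mul_inv_cancel_right]

theorem comm_of_conj {x y : G} (h : x * y * x⁻¹ = y) : x * y = y * x := mul_inv_eq_iff_eq_mul.1 h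

theorem comm_swap {H : Subgroup G} {x y : G} (h : x * y * x⁻¹ * y⁻¹ ∈ H) : y * x * y⁻¹ * x⁻¹ ∈ H := by
  have e : y * x * y⁻¹ * x⁻¹ = (x * y * x⁻¹ * y⁻¹)⁻¹ := by group
  rw [e]; exact inv_mem h

/-- `[b, c] = [b, c']` implies that `b` commutes with `c'⁻¹ c` -/
theorem comm_of_eq {b c c' : G} (h : b * c * b⁻¹ * c⁻¹ = b * c' * b⁻¹ * c'⁻¹) : b * (c'⁻¹ * c) = c'⁻¹ * c * b := by
  have h1 : b * c * b⁻¹ = (b * c' * b⁻¹ * c'⁻¹) * c := by rw [← h]; group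
  calc b * (c'⁻¹ * c) = (b * c' * b⁻¹)⁻¹ * (b * c * b⁻¹) * b := by group
    _ = (b * c' * b⁻¹)⁻¹ * ((b * c' * b⁻¹ * c'⁻¹) * c) * b := by rw [h1]
    _ = c'⁻¹ * c * b := by group

variable (h : Half V R A B)
include h

theorem Half.BV {i : ι} {b v : G} (hb : b ∈ B i) (hv : v ∈ V) : b * v * b⁻¹ * v⁻¹ ∈ R i :=
  h.QA i b (h.B_le_Q i hb) v (h.V_le i hv)

theorem Half.Q_le_NV (i : ι) : QQ (R i) ≤ normalizer (V : Set G) := by
  refine le_normalizer_of fun b hb v hv => ?_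
  have e : b * v * b⁻¹ = b * v * b⁻¹ * v⁻¹ * v := by group
  rw [e]
  exact mul_mem (h.R_le i (h.QA i b hb v (h.V_le i hv))) hv

theorem Half.B_le_NV (i : ι) : B i ≤ normalizer (V : Set G) := (h.B_le_Q i).trans (h.Q_le_NV i)

theorem Half.X_le_NV : XB B ≤ normalizer (V : Set G) := iSup_le fun i => h.B_le_NV i

theorem Half.B_le_NR (i : ι) : B i ≤ normalizer (R i : Set G) := (h.B_le_Q i).trans (O2_le _)

theorem Half.A_le_NR (i : ι) : A i ≤ normalizer (R i : Set G) := (h.A_le_Q i).trans (O2_le _)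

theorem Half.A_le_C (i : ι) : A i ≤ centralizer (V : Set G) := fun a ha =>
  mem_cen fun v hv => h.A_comm i a ha v (h.V_le i hv)

theorem Half.V_comm (i : ι) {v w : G} (hv : v ∈ V) (hw : w ∈ V) : v * w = w * v :=
  h.A_comm i v (h.V_le i hv) w (h.V_le i hw)

theorem Half.C_le_NR (i : ι) : centralizer (V : Set G) ≤ normalizer (R i : Set G) := by
  refine le_normalizer_of fun k hk v hv => ?_
  rw [conj_of_comm (cen_comm hk (h.R_le i hv))]
  exact hv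

theorem Half.C_le_NA (i : ι) : centralizer (V : Set G) ≤ normalizer (A i : Set G) := (h.C_le_NR i).trans (h.normA i)

theorem Half.C_le_NB (i : ι) : centralizer (V : Set G) ≤ normalizer (B i : Set G) := (h.C_le_NR i).trans (h.normB i)

theorem Half.eq_one {i j : ι} (hij : i ≠ j) {x : G} (hi : x ∈ R i) (hj : x ∈ R j) : x = 1 := by
  have : x ∈ R i ⊓ R j := ⟨hi, hj⟩
  rw [h.R_inf i j hij] at this
  exact mem_bot.1 this

theorem Half.R_index {i j : ι} (e : R i = R j) : i = j := by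
  by_contra hne
  have := h.R_inf i j hne
  rw [e, inf_idem] at this
  exact h.R_ne j this

/-- `V = R i R j` -/
theorem Half.exists_mul {i j : ι} (hij : i ≠ j) {v : G} (hv : v ∈ V) : ∃ a ∈ R i, ∃ c ∈ R j, v = a * c := by
  let T : Subgroup G :=
    { carrier := {v | ∃ a ∈ R i, ∃ c ∈ R j, v = a * c}
      one_mem' := ⟨1, one_mem _, 1, one_mem _, by rw [one_mul]⟩
      mul_mem' := by
        rintro _ _ ⟨a, ha, c, hc, rfl⟩ ⟨a', ha', c', hc', rfl⟩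
        refine ⟨a * a', mul_mem ha ha', c * c', mul_mem hc hc', ?_⟩
        have := h.V_comm i (h.R_le j hc) (h.R_le i ha')
        calc a * c * (a' * c') = a * (c * a') * c' := by group
          _ = a * a' * (c * c') := by rw [this]; group
      inv_mem' := by
        rintro _ ⟨a, ha, c, hc, rfl⟩
        refine ⟨a⁻¹, inv_mem ha, c⁻¹, inv_mem hc, ?_⟩
        rw [mul_inv_rev]
        exact h.V_comm i (inv_mem (h.R_le j hc)) (inv_mem (h.R_le i ha)) }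
  have hT : R i ⊔ R j ≤ T := sup_le (fun a ha => ⟨a, ha, 1, one_mem _, by rw [mul_one]⟩)
    fun c hc => ⟨1, one_mem _, c, hc, by rw [one_mul]⟩
  rw [h.R_sup i j hij] at hT
  exact hT hv

/-- an element of `B i` fixing another line centralises `V` -/
theorem Half.fix {i j : ι} (hij : j ≠ i) {b : G} (hb : b ∈ B i) (e : cj b (R j) = R j) :
    b ∈ centralizer (V : Set G) := by
  refine mem_cen fun v hv => ?_
  obtain ⟨r, hr, s, hs, rfl⟩ := h.exists_mul (Ne.symm hij) hv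
  have h1 : b * r = r * b := h.B_comm i b hb r (h.R_le_B i hr)
  have h2 : b * s * b⁻¹ * s⁻¹ = 1 := by
    refine h.eq_one hij ?_ (h.BV hb (h.R_le j hs))
    refine mul_mem ?_ (inv_mem hs)
    rw [← e]
    exact conj_mem_cj hs
  have h3 : b * s = s * b := by
    rw [mul_inv_eq_one] at h2
    exact comm_of_conj h2
  calc b * (r * s) = b * r * s := by group
    _ = r * (b * s) := by rw [h1]; group
    _ = r * s * b := by rw [h3]; group

theorem Half.image_ne {i j k : ι} (hij : j ≠ i) {b : G} (hb : b ∈ B i) (e : cj b (R j) = R k) : k ≠ i := by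
  rintro rfl
  have h1 : cj b (R k) = R k := cj_eq_self_iff.2 (h.B_le_NR k hb)
  exact hij (h.R_index (cj_injective (e.trans h1.symm)))

theorem Half.exists_b (i : ι) : ∃ b ∈ B i, b ∉ centralizer (V : Set G) := by
  obtain ⟨j, hj, -⟩ := h.third i i
  obtain ⟨k, hk, hkj⟩ := h.third i j
  obtain ⟨b, hb, e⟩ := h.trans i j k hj hk
  refine ⟨b, hb, fun hc => hkj ?_⟩
  have h1 : cj b (R j) = R j := cj_eq_self_iff.2 (h.C_le_NR j hc)
  exact h.R_index (e.symm.trans h1)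

theorem Half.trans_X (i j : ι) : ∃ x ∈ XB B, cj x (R i) = R j := by
  obtain ⟨k, hki, hkj⟩ := h.third i j
  obtain ⟨b, hb, e⟩ := h.trans k i j (Ne.symm hki) (Ne.symm hkj)
  exact ⟨b, B_le_X k hb, e⟩

/-- `X = ⟨B i, B j⟩` -/
theorem Half.X_eq {i j : ι} (hij : i ≠ j) : XB B = B i ⊔ B j := by
  apply le_antisymm
  · refine iSup_le fun k => ?_
    by_cases hk : k = i
    · subst hk; exact le_sup_left
    obtain ⟨w, hw, e⟩ := h.trans i j k (Ne.symm hij) hk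
    rw [← h.conjB w (h.B_le_NV i hw) j k e, cj_le_iff]
    intro x hx
    have h1 : w ∈ B i ⊔ B j := (le_sup_left : B i ≤ _) hw
    exact mul_mem (mul_mem h1 ((le_sup_right : B j ≤ _) hx)) (inv_mem h1)
  · exact sup_le (B_le_X i) (B_le_X j)

theorem Half.eq_one_of_cen {i j : ι} (hij : i ≠ j) {x : G} (hi : x ∈ centralizer (B i : Set G))
    (hj : x ∈ centralizer (B j : Set G)) : x = 1 := by
  have h1 : x ∈ centralizer (XB B : Set G) := by
    rw [h.X_eq hij]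
    exact mem_cen_sup hi hj
  have h2 : x ∈ (⊥ : Subgroup G) := by rw [← h.cenX]; exact h1
  exact mem_bot.1 h2

/-- **(1)** `B i ∩ B j = 1` -/
theorem Half.B_inf {i j : ι} (hij : i ≠ j) {x : G} (hi : x ∈ B i) (hj : x ∈ B j) : x = 1 :=
  h.eq_one_of_cen hij (mem_cen fun b hb => h.B_comm i x hi b hb) (mem_cen fun b hb => h.B_comm j x hj b hb)

theorem Half.conjU {g : G} (hg : g ∈ normalizer (V : Set G)) {i j : ι} (e : cj g (R i) = R j) :
    cj g (UB V B i) = UB V B j := by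
  rw [UB, UB, cj_inf, h.conjB g hg i j e, ← centralizer_cj, cj_eq_self_iff.2 hg]

theorem Half.NV_le_NUT : normalizer (V : Set G) ≤ normalizer (UT V B : Set G) := by
  refine le_normalizer_of fun g hg y hy => ?_
  have h1 : cj g (UT V B) ≤ UT V B := by
    rw [UT, cj_iSup]
    refine iSup_le fun i => ?_
    obtain ⟨j, hj⟩ := h.perm g hg i
    rw [h.conjU hg hj]
    exact UB_le_UT j
  exact h1 (conj_mem_cj hy)

theorem Half.NV_le_NX : normalizer (V : Set G) ≤ normalizer (XB B : Set G) := by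
  refine le_normalizer_of fun g hg y hy => ?_
  have h1 : cj g (XB B) ≤ XB B := by
    rw [XB, cj_iSup]
    refine iSup_le fun i => ?_
    obtain ⟨j, hj⟩ := h.perm g hg i
    rw [h.conjB g hg i j hj]
    exact B_le_X j
  exact h1 (conj_mem_cj hy)

/-- the `U i` commute -/
theorem Half.UB_comm (i j : ι) {u w : G} (hu : u ∈ UB V B i) (hw : w ∈ UB V B j) : u * w = w * u := by
  by_cases hij : i = j
  · subst hij
    exact h.B_comm i u hu.1 w hw.1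
  have h1 : u * w * u⁻¹ * w⁻¹ = 1 := by
    refine h.B_inf hij ?_ ?_
    · have e : u * w * u⁻¹ * w⁻¹ = u * (w * u⁻¹ * w⁻¹) := by group
      rw [e]
      exact mul_mem hu.1 (conj_mem_of_normalizer (h.C_le_NB i hw.2) (inv_mem hu.1))
    · exact mul_mem (conj_mem_of_normalizer (h.C_le_NB j hu.2) hw.1) (inv_mem hw.1)
  rw [mul_inv_eq_one] at h1
  exact comm_of_conj h1

/-- `[B i, U j] ≤ U i` -/
theorem Half.delta_mem {i j : ι} {b c : G} (hb : b ∈ B i) (hc : c ∈ UB V B j) : b * c * b⁻¹ * c⁻¹ ∈ UB V B i := by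
  refine mem_inf.2 ⟨?_, ?_⟩
  · have e : b * c * b⁻¹ * c⁻¹ = b * (c * b⁻¹ * c⁻¹) := by group
    rw [e]
    exact mul_mem hb (conj_mem_of_normalizer (h.C_le_NB i hc.2) (inv_mem hb))
  · exact mul_mem (conj_mem_of_normalizer (normalizer_le_normalizer_centralizer V (h.B_le_NV i hb)) hc.2)
      (inv_mem hc.2)

theorem Half.delta_inj {i j : ι} (hij : j ≠ i) {b : G} (hb : b ∈ B i) (hbV : b ∉ centralizer (V : Set G)) {c : G}
    (hc : c ∈ UB V B j) (e : b * c = c * b) : c = 1 := by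
  obtain ⟨k, hk⟩ := h.perm b (h.B_le_NV i hb) j
  have hkj : k ≠ j := by
    rintro rfl
    exact hbV (h.fix hij hb hk)
  refine h.B_inf hkj ?_ hc.1
  rw [← h.conjB b (h.B_le_NV i hb) j k hk, ← conj_of_comm e]
  exact conj_mem_cj hc.1

theorem Half.delta_eq {i j : ι} (hij : j ≠ i) {b : G} (hb : b ∈ B i) (hbV : b ∉ centralizer (V : Set G)) {c c' : G}
    (hc : c ∈ UB V B j) (hc' : c' ∈ UB V B j) (e : b * c * b⁻¹ * c⁻¹ = b * c' * b⁻¹ * c'⁻¹) : c = c' := by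
  have h1 := h.delta_inj hij hb hbV (mul_mem (inv_mem hc') hc) (comm_of_eq e)
  exact (inv_mul_eq_one.1 h1).symm

theorem Half.R_le_UB (i : ι) : R i ≤ UB V B i := fun _ hr =>
  ⟨h.R_le_B i hr, mem_cen fun _ hv => h.V_comm i (h.R_le i hr) hv⟩

theorem Half.delta_R [Finite G] {i j : ι} (hij : j ≠ i) {b : G} (hb : b ∈ B i)
    (hbV : b ∉ centralizer (V : Set G)) {c : G} (hc : c ∈ UB V B j) (e : b * c * b⁻¹ * c⁻¹ ∈ R i) : c ∈ R j := by
  let f : R j → R i := fun r => ⟨b * r * b⁻¹ * (r : G)⁻¹, h.BV hb (h.R_le j r.2)⟩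
  have hf : Function.Injective f := by
    intro r s hrs
    exact Subtype.ext (h.delta_eq hij hb hbV (h.R_le_UB j r.2) (h.R_le_UB j s.2) (congrArg Subtype.val hrs))
  have hcard : Nat.card (R i) ≤ Nat.card (R j) := by
    obtain ⟨x, -, hx⟩ := h.trans_X i j
    rw [← hx, card_cj]
  have hb := (Nat.bijective_iff_injective_and_card f).2
    ⟨hf, le_antisymm (Nat.card_le_card_of_injective f hf) hcard⟩
  obtain ⟨r, hr⟩ := hb.2 ⟨_, e⟩
  have := h.delta_eq hij ‹_› hbV hc (h.R_le_UB j r.2) (congrArg Subtype.val hr).symm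
  rw [this]
  exact r.2

/-! ### `U` -/

theorem Half.mem_UT {i j : ι} (hij : j ≠ i) {x : G} (hx : x ∈ UT V B) :
    ∃ u ∈ UB V B i, ∃ c ∈ UB V B j, x = u * c := by
  let T : Subgroup G :=
    { carrier := {v | ∃ a ∈ UB V B i, ∃ c ∈ UB V B j, v = a * c}
      one_mem' := ⟨1, one_mem _, 1, one_mem _, by rw [one_mul]⟩
      mul_mem' := by
        rintro _ _ ⟨a, ha, c, hc, rfl⟩ ⟨a', ha', c', hc', rfl⟩
        refine ⟨a * a', mul_mem ha ha', c * c', mul_mem hc hc', ?_⟩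
        have := h.UB_comm j i hc ha'
        calc a * c * (a' * c') = a * (c * a') * c' := by group
          _ = a * a' * (c * c') := by rw [this]; group
      inv_mem' := by
        rintro _ ⟨a, ha, c, hc, rfl⟩
        refine ⟨a⁻¹, inv_mem ha, c⁻¹, inv_mem hc, ?_⟩
        rw [mul_inv_rev]
        exact h.UB_comm j i (inv_mem hc) (inv_mem ha) }
  have hT : UT V B ≤ T := by
    refine iSup_le fun k => ?_
    by_cases hki : k = i
    · subst hki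
      exact fun a ha => ⟨a, ha, 1, one_mem _, by rw [mul_one]⟩
    obtain ⟨b, hb, e⟩ := h.trans i j k hij hki
    rw [← h.conjU (h.B_le_NV i hb) e]
    rintro _ ⟨c, hc, rfl⟩
    refine ⟨b * c * b⁻¹ * c⁻¹, h.delta_mem hb hc, c, hc, ?_⟩
    change b * c * b⁻¹ = _
    group
  exact hT hx

theorem Half.UT_comm {x y : G} (hx : x ∈ UT V B) (hy : y ∈ UT V B) : x * y = y * x := by
  have h1 : UT V B ≤ centralizer (UT V B : Set G) := by
    refine iSup_le fun i u hu => ?_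
    have h2 : UT V B ≤ centralizer {u} := by
      refine iSup_le fun j w hw => ?_
      rw [mem_centralizer_iff]
      rintro _ rfl
      exact h.UB_comm i j hu hw
    refine mem_cen fun y hy => ?_
    exact mem_centralizer_iff.1 (h2 hy) u rfl
  exact cen_comm (h1 hx) hy

theorem Half.V_le_UT [Nonempty ι] : V ≤ UT V B := by
  obtain ⟨i⟩ := ‹Nonempty ι›
  obtain ⟨j, hj, -⟩ := h.third i i
  have h1 : R j ⊔ R i ≤ UT V B :=
    sup_le ((h.R_le_UB j).trans (UB_le_UT j)) ((h.R_le_UB i).trans (UB_le_UT i))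
  rwa [h.R_sup j i hj] at h1

/-! ### (2) -/

theorem Half.A_inf_le {i j : ι} (_hij : i ≠ j) {a : G} (hi : a ∈ A i) (hj : a ∈ A j) (hji : j ≠ i) (k : ι) :
    a ∈ A k := by
  by_cases hk : k = i
  · subst hk; exact hi
  obtain ⟨b, hb, e⟩ := h.trans i j k hji hk
  have h1 : b * a * b⁻¹ ∈ A k := by
    rw [← h.conjA b (h.B_le_NV i hb) j k e]
    exact conj_mem_cj hj
  have h2 : b * a * b⁻¹ * a⁻¹ ∈ A k := h.V_le k (h.R_le i (h.QA i b (h.B_le_Q i hb) a hi))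
  have e : a = (b * a * b⁻¹ * a⁻¹)⁻¹ * (b * a * b⁻¹) := by group
  rw [e]
  exact mul_mem (inv_mem h2) h1

/-- `A j ∩ B i = R i` -/
theorem Half.AB_inf [Finite G] {i j : ι} (hij : j ≠ i) {f : G} (hA : f ∈ A j) (hB : f ∈ B i) : f ∈ R i := by
  obtain ⟨b, hb, hbV⟩ := h.exists_b j
  refine h.delta_R (Ne.symm hij) hb hbV (c := f) ⟨hB, h.A_le_C j hA⟩ ?_
  exact h.QA j b (h.B_le_Q j hb) f hA

/-- `[A j, U i] ≤ R i` -/
theorem Half.AU [Finite G] {i j : ι} {a u : G} (ha : a ∈ A j) (hu : u ∈ UB V B i) : a * u * a⁻¹ * u⁻¹ ∈ R i := by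
  by_cases hij : j = i
  · subst hij
    exact h.QB j a (h.A_le_Q j ha) u hu.1
  refine h.AB_inf hij ?_ ?_
  · have e : a * u * a⁻¹ * u⁻¹ = a * (u * a⁻¹ * u⁻¹) := by group
    rw [e]
    exact mul_mem ha (conj_mem_of_normalizer (h.C_le_NA j hu.2) (inv_mem ha))
  · exact mul_mem (conj_mem_of_normalizer (h.C_le_NB i (h.A_le_C j ha)) hu.1) (inv_mem hu.1)

theorem Half.AU' [Finite G] {j : ι} {a u : G} (ha : a ∈ A j) (hu : u ∈ UT V B) : a * u * a⁻¹ * u⁻¹ ∈ V := by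
  obtain ⟨i, hi, -⟩ := h.third j j
  obtain ⟨x, hx, c, hc, rfl⟩ := h.mem_UT hi hu
  have h1 := h.R_le _ (h.AU ha hx)
  have h2 := h.R_le _ (h.AU ha hc)
  have h3 : x * (a * c * a⁻¹ * c⁻¹) * x⁻¹ = a * c * a⁻¹ * c⁻¹ := conj_of_comm (cen_comm (UB_le_cen _ hx) h2)
  have e : a * (x * c) * a⁻¹ * (x * c)⁻¹ = (a * x * a⁻¹ * x⁻¹) * (x * (a * c * a⁻¹ * c⁻¹) * x⁻¹) := by group
  rw [e, h3]
  exact mul_mem h1 h2

theorem Half.AU_mul [Finite G] {j : ι} {a u c : G} (ha : a ∈ A j) (hu : u ∈ UT V B) (hc : c ∈ UT V B) :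
    a * (u * c) * a⁻¹ * (u * c)⁻¹ = (a * u * a⁻¹ * u⁻¹) * (a * c * a⁻¹ * c⁻¹) := by
  have h3 : u * (a * c * a⁻¹ * c⁻¹) * u⁻¹ = a * c * a⁻¹ * c⁻¹ := conj_of_comm (cen_comm (UT_le_cen hu) (h.AU' ha hc))
  have e : a * (u * c) * a⁻¹ * (u * c)⁻¹ = (a * u * a⁻¹ * u⁻¹) * (u * (a * c * a⁻¹ * c⁻¹) * u⁻¹) := by group
  rw [e, h3]

/-- `A j` commutes with `X` on `U` -/
theorem Half.AX_step [Finite G] {i j : ι} {a b u : G} (ha : a ∈ A j) (hb : b ∈ B i) (hu : u ∈ UT V B) :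
    a * (b * u * b⁻¹) * a⁻¹ * (b * u * b⁻¹)⁻¹ = b * (a * u * a⁻¹ * u⁻¹) * b⁻¹ := by
  obtain ⟨k, hk, -⟩ := h.third i i
  have hbV := h.B_le_NV i hb
  have hbU := h.NV_le_NUT hbV
  -- on `U i`
  have h1 : ∀ u ∈ UB V B i, a * (b * u * b⁻¹) * a⁻¹ * (b * u * b⁻¹)⁻¹ = b * (a * u * a⁻¹ * u⁻¹) * b⁻¹ := by
    intro u hu
    rw [conj_of_comm (h.B_comm i b hb u hu.1), conj_of_comm (h.B_comm i b hb _ (h.R_le_B i (h.AU ha hu)))]
  -- on `U k`
  have h2 : ∀ c ∈ UB V B k, a * (b * c * b⁻¹) * a⁻¹ * (b * c * b⁻¹)⁻¹ = b * (a * c * a⁻¹ * c⁻¹) * b⁻¹ := by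
    intro c hc
    obtain ⟨l, hl⟩ := h.perm b hbV k
    have hli := h.image_ne hk hb hl
    have h3 : b * c * b⁻¹ ∈ UB V B l := by
      rw [← h.conjU hbV hl]
      exact conj_mem_cj hc
    have h4 := h.AU ha h3
    have h5 : b * (a * c * a⁻¹ * c⁻¹) * b⁻¹ ∈ R l := by
      rw [← hl]
      exact conj_mem_cj (h.AU ha hc)
    have h6 := h.delta_mem hb hc
    have h7 := h.AU ha h6
    have h8 : a * (b * c * b⁻¹) * a⁻¹ * (b * c * b⁻¹)⁻¹ =
        (a * (b * c * b⁻¹ * c⁻¹) * a⁻¹ * (b * c * b⁻¹ * c⁻¹)⁻¹) * (a * c * a⁻¹ * c⁻¹) := by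
      rw [← h.AU_mul ha (UB_le_UT i h6) (UB_le_UT k hc), inv_mul_cancel_right]
    have h9 : b * (a * c * a⁻¹ * c⁻¹) * b⁻¹ * (a * c * a⁻¹ * c⁻¹)⁻¹ ∈ R i :=
      h.BV hb (h.R_le k (h.AU ha hc))
    have h10 : (a * (b * c * b⁻¹) * a⁻¹ * (b * c * b⁻¹)⁻¹) * (b * (a * c * a⁻¹ * c⁻¹) * b⁻¹)⁻¹ = 1 := by
      refine h.eq_one hli (mul_mem h4 (inv_mem h5)) ?_
      have e : (a * (b * c * b⁻¹) * a⁻¹ * (b * c * b⁻¹)⁻¹) * (b * (a * c * a⁻¹ * c⁻¹) * b⁻¹)⁻¹ =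
          (a * (b * c * b⁻¹ * c⁻¹) * a⁻¹ * (b * c * b⁻¹ * c⁻¹)⁻¹) *
            (b * (a * c * a⁻¹ * c⁻¹) * b⁻¹ * (a * c * a⁻¹ * c⁻¹)⁻¹)⁻¹ := by
        rw [h8]; group
      rw [e]
      exact mul_mem h7 (inv_mem h9)
    exact mul_inv_eq_one.1 h10
  obtain ⟨x, hx, c, hc, rfl⟩ := h.mem_UT hk hu
  have hxU := UB_le_UT i hx
  have hcU := UB_le_UT k hc
  have e1 : b * (x * c) * b⁻¹ = (b * x * b⁻¹) * (b * c * b⁻¹) := by group
  rw [e1, h.AU_mul ha (conj_mem_of_normalizer hbU hxU) (conj_mem_of_normalizer hbU hcU), h1 x hx, h2 c hc,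
    h.AU_mul ha hxU hcU]
  group

theorem Half.AX_comm [Finite G] {j : ι} {a x u : G} (ha : a ∈ A j) (hx : x ∈ XB B) (hu : u ∈ UT V B) :
    a * (x * u * x⁻¹) * a⁻¹ = x * (a * u * a⁻¹) * x⁻¹ := by
  let T : Subgroup G :=
    { carrier := {x | x ∈ normalizer (V : Set G) ∧ ∀ u ∈ UT V B, a * (x * u * x⁻¹) * a⁻¹ = x * (a * u * a⁻¹) * x⁻¹}
      one_mem' := ⟨one_mem _, fun u _ => by group⟩
      mul_mem' := by
        rintro x y ⟨hx, hx'⟩ ⟨hy, hy'⟩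
        refine ⟨mul_mem hx hy, fun u hu => ?_⟩
        have h1 := hx' _ (conj_mem_of_normalizer (h.NV_le_NUT hy) hu)
        calc a * (x * y * u * (x * y)⁻¹) * a⁻¹ = a * (x * (y * u * y⁻¹) * x⁻¹) * a⁻¹ := by group
          _ = x * (a * (y * u * y⁻¹) * a⁻¹) * x⁻¹ := h1
          _ = x * (y * (a * u * a⁻¹) * y⁻¹) * x⁻¹ := by rw [hy' u hu]
          _ = x * y * (a * u * a⁻¹) * (x * y)⁻¹ := by group
      inv_mem' := by
        rintro x ⟨hx, hx'⟩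
        refine ⟨inv_mem hx, fun u hu => ?_⟩
        have h1 := hx' _ (conj_inv_mem_of_normalizer (h.NV_le_NUT hx) hu)
        calc a * (x⁻¹ * u * x⁻¹⁻¹) * a⁻¹ = x⁻¹ * (x * (a * (x⁻¹ * u * x) * a⁻¹) * x⁻¹) * x := by group
          _ = x⁻¹ * (a * (x * (x⁻¹ * u * x) * x⁻¹) * a⁻¹) * x := by rw [h1]
          _ = x⁻¹ * (a * u * a⁻¹) * x⁻¹⁻¹ := by group }
  have hT : XB B ≤ T := by
    refine iSup_le fun i b hb => ⟨h.B_le_NV i hb, fun u hu => ?_⟩
    have h1 := h.AX_step ha hb hu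
    calc a * (b * u * b⁻¹) * a⁻¹ = (a * (b * u * b⁻¹) * a⁻¹ * (b * u * b⁻¹)⁻¹) * (b * u * b⁻¹) := by group
      _ = b * (a * u * a⁻¹ * u⁻¹) * b⁻¹ * (b * u * b⁻¹) := by rw [h1]
      _ = b * (a * u * a⁻¹) * b⁻¹ := by group
  exact (hT hx).2 u hu

theorem Half.A_le_NUT (j : ι) : A j ≤ normalizer (UT V B : Set G) :=
  ((h.A_le_C j).trans (cen_le_NV V)).trans h.NV_le_NUT

/-- `[A j, X] ≤ K = C(U)` -/
theorem Half.AX_mem [Finite G] {j : ι} {a x : G} (ha : a ∈ A j) (hx : x ∈ XB B) :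
    a * x * a⁻¹ * x⁻¹ ∈ centralizer (UT V B : Set G) := by
  refine mem_cen fun u hu => ?_
  have hxU := h.NV_le_NUT (h.X_le_NV hx)
  have hy := conj_inv_mem_of_normalizer (h.A_le_NUT j ha) (conj_inv_mem_of_normalizer hxU hu)
  have h1 := h.AX_comm ha hx hy
  apply comm_of_conj
  calc a * x * a⁻¹ * x⁻¹ * u * (a * x * a⁻¹ * x⁻¹)⁻¹
      = a * (x * (a⁻¹ * (x⁻¹ * u * x) * a) * x⁻¹) * a⁻¹ := by group
    _ = x * (a * (a⁻¹ * (x⁻¹ * u * x) * a) * a⁻¹) * x⁻¹ := h1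
    _ = u := by group

theorem Half.NV_le_NK : normalizer (V : Set G) ≤ normalizer (centralizer (UT V B : Set G) : Set G) :=
  h.NV_le_NUT.trans (normalizer_le_normalizer_centralizer _)

theorem Half.K_le_C [Nonempty ι] : centralizer (UT V B : Set G) ≤ centralizer (V : Set G) :=
  centralizer_le h.V_le_UT

theorem Half.UT_le_K : UT V B ≤ centralizer (UT V B : Set G) := fun _ hx => mem_cen fun _ hy => h.UT_comm hx hy

/-- `[K, X] ≤ U` -/
theorem Half.KX [Nonempty ι] {k x : G} (hk : k ∈ centralizer (UT V B : Set G)) (hx : x ∈ XB B) :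
    x * k * x⁻¹ * k⁻¹ ∈ UT V B := by
  have h1 : XB B ≤ cenMod (UT V B) (centralizer (UT V B : Set G)) := by
    refine iSup_le fun i b hb => ⟨h.NV_le_NUT (h.B_le_NV i hb), fun k hk => ?_⟩
    refine UB_le_UT i (mem_inf.2 ⟨?_, ?_⟩)
    · have e : b * k * b⁻¹ * k⁻¹ = b * (k * b⁻¹ * k⁻¹) := by group
      rw [e]
      exact mul_mem hb (conj_mem_of_normalizer (h.C_le_NB i (h.K_le_C hk)) (inv_mem hb))
    · exact h.K_le_C (mul_mem (conj_mem_of_normalizer (h.NV_le_NK (h.B_le_NV i hb)) hk) (inv_mem hk))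
  exact (h1 hx).2 k hk

theorem Half.KB [Nonempty ι] {i : ι} {k b : G} (hk : k ∈ centralizer (UT V B : Set G)) (hb : b ∈ B i) :
    k * b * k⁻¹ * b⁻¹ ∈ UB V B i := by
  refine mem_inf.2 ⟨mul_mem (conj_mem_of_normalizer (h.C_le_NB i (h.K_le_C hk)) hb) (inv_mem hb), ?_⟩
  have e : k * b * k⁻¹ * b⁻¹ = k * (b * k⁻¹ * b⁻¹) := by group
  rw [e]
  exact h.K_le_C (mul_mem hk (conj_mem_of_normalizer (h.NV_le_NK (h.B_le_NV i hb)) (inv_mem hk)))

theorem Half.B_isPGroup (i : ι) : IsPGroup 2 (B i) := (O2_isPGroup _).to_le (h.B_le_Q i)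

/-- `K` is a 2-group -/
theorem Half.K_isPGroup [Finite G] [Nonempty ι] : IsPGroup 2 (centralizer (UT V B : Set G)) := by
  refine isPGroup_of_odd fun c hc hodd => ?_
  have h1 : ∀ i, c ∈ centralizer (B i : Set G) := fun i => mem_cen fun b hb => by
    have h2 := h.KB hc hb
    exact comm_of_odd hodd (h.B_isPGroup i) h2.1 (cen_comm hc (UB_le_UT i h2))
  obtain ⟨i⟩ := ‹Nonempty ι›
  obtain ⟨j, hj, -⟩ := h.third i i
  exact h.eq_one_of_cen hj (h1 j) (h1 i)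

/-- `C(A i) ∩ C(B i) ≤ K` -/
theorem Half.Z_le_K {i : ι} {z : G} (hA : z ∈ centralizer (A i : Set G)) (hB : z ∈ centralizer (B i : Set G)) :
    z ∈ centralizer (UT V B : Set G) := by
  have hzV : z ∈ centralizer (V : Set G) := centralizer_le (h.V_le i) hA
  obtain ⟨j, hj, -⟩ := h.third i i
  obtain ⟨b, hb, hbV⟩ := h.exists_b i
  have h1 : ∀ e ∈ UB V B j, z * e = e * z := by
    intro e he
    have he' : z * e * z⁻¹ ∈ UB V B j := by
      refine mem_inf.2 ⟨conj_mem_of_normalizer (h.C_le_NB j hzV) he.1, mul_mem (mul_mem hzV he.2) (inv_mem hzV)⟩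
    have h2 : z * b = b * z := cen_comm hB hb
    have h3 := h.delta_mem hb he
    have h4 : z * (b * e * b⁻¹ * e⁻¹) * z⁻¹ = b * e * b⁻¹ * e⁻¹ := conj_of_comm (cen_comm hB h3.1)
    have h5 : b * (z * e * z⁻¹) * b⁻¹ * (z * e * z⁻¹)⁻¹ = b * e * b⁻¹ * e⁻¹ := by
      rw [← h4]
      have h6 : b⁻¹ * z = z * b⁻¹ := by
        calc b⁻¹ * z = b⁻¹ * (z * b) * b⁻¹ := by group
          _ = b⁻¹ * (b * z) * b⁻¹ := by rw [h2]
          _ = z * b⁻¹ := by group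
      have h7 : z⁻¹ * b⁻¹ = b⁻¹ * z⁻¹ := by rw [← mul_inv_rev, ← mul_inv_rev, h2]
      calc b * (z * e * z⁻¹) * b⁻¹ * (z * e * z⁻¹)⁻¹ = (b * z) * e * (z⁻¹ * b⁻¹) * z * e⁻¹ * z⁻¹ := by group
        _ = (z * b) * e * (b⁻¹ * z⁻¹) * z * e⁻¹ * z⁻¹ := by rw [h7, ← h2]
        _ = z * (b * e * b⁻¹ * e⁻¹) * z⁻¹ := by group
    exact comm_of_conj (h.delta_eq hj hb hbV he' he h5)
  refine mem_cen fun x hx => ?_
  obtain ⟨u, hu, c, hc, rfl⟩ := h.mem_UT hj hx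
  have h2 : z * u = u * z := cen_comm hB hu.1
  have h3 := h1 c hc
  calc z * (u * c) = z * u * c := by group
    _ = u * (z * c) := by rw [h2]; group
    _ = u * c * z := by rw [h3]; group

/-- `A i ≤ K (A j)` -/
theorem Half.A_le_KA [Finite G] (i j : ι) {a : G} (ha : a ∈ A i) :
    ∃ k ∈ centralizer (UT V B : Set G), ∃ a' ∈ A j, a = k * a' := by
  obtain ⟨x, hx, e⟩ := h.trans_X j i
  rw [← h.conjA x (h.X_le_NV hx) j i e] at ha
  obtain ⟨a', ha', rfl⟩ := ha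
  refine ⟨x * a' * x⁻¹ * a'⁻¹, comm_swap (h.AX_mem ha' hx), a', ha', ?_⟩
  change x * a' * x⁻¹ = _
  group

end

end Cfsg.Agent.Omega.AB
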