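import Cfsg.Agent.Omega.AB.Abs

/-!
# OMEGA II.b, `W₁` and `W₂` abelian (#12886, THEOREM AB): the abstract part (3) - (7)

* `Half.cenB`: `C_{B i}(A i) = R i`;
* `Half.A_eq`: if moreover `C_{A i}(B i) = R i` and there is a torus element `t`, then all the `A i` are equal.
-/

set_option autoImplicit false

namespace Cfsg.Agent.Omega.AB

open Subgroup Cfsg.Agent.Omega.BTwo

variable {G : Type*} [Group G] {ι : Type*}

variable {V : Subgroup G} {R A B : ι → Subgroup G} (h : Half V R A B)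
include h

/-- odd elements stabilising `B i > C > 1` and centralising `A i` are trivial; so such a stabiliser is in `Q i` -/
theorem Half.stab_le [Finite G] (i : ι) {C : Subgroup G} (hCB : C ≤ B i)
    (hCn : normalizer (R i : Set G) ≤ normalizer (C : Set G)) {g : G} (hg1 : g ∈ normalizer (R i : Set G))
    (hg2 : g ∈ centralizer (A i : Set G)) (hg3 : g ∈ centralizer (C : Set G))
    (hg4 : ∀ b ∈ B i, g * b * g⁻¹ * b⁻¹ ∈ C) : g ∈ QQ (R i) := by
  have : Nonempty ι := ⟨i⟩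
  let T : Subgroup G :=
    { carrier := {g | g ∈ normalizer (R i : Set G) ∧ g ∈ centralizer (A i : Set G) ∧ g ∈ centralizer (C : Set G) ∧
        ∀ b ∈ B i, g * b * g⁻¹ * b⁻¹ ∈ C}
      one_mem' := ⟨one_mem _, one_mem _, one_mem _, fun b _ => by
        have e : 1 * b * 1⁻¹ * b⁻¹ = 1 := by group
        rw [e]; exact one_mem _⟩
      mul_mem' := by
        rintro x y ⟨h1, h2, h3, h5⟩ ⟨k1, k2, k3, k5⟩
        refine ⟨mul_mem h1 k1, mul_mem h2 k2, mul_mem h3 k3, fun b hb => ?_⟩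
        have e : x * y * b * (x * y)⁻¹ * b⁻¹ = x * (y * b * y⁻¹ * b⁻¹) * x⁻¹ * (x * b * x⁻¹ * b⁻¹) := by group
        rw [e]
        exact mul_mem (conj_mem_of_normalizer (hCn h1) (k5 b hb)) (h5 b hb)
      inv_mem' := by
        rintro x ⟨h1, h2, h3, h5⟩
        refine ⟨inv_mem h1, inv_mem h2, inv_mem h3, fun b hb => ?_⟩
        have e : x⁻¹ * b * x⁻¹⁻¹ * b⁻¹ = x⁻¹ * (x * b * x⁻¹ * b⁻¹)⁻¹ * x := by group
        rw [e]
        exact conj_inv_mem_of_normalizer (hCn h1) (inv_mem (h5 b hb)) }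
  have hT2 : IsPGroup 2 T := by
    refine isPGroup_of_odd fun c hc hodd => ?_
    obtain ⟨h1, h2, h3, h5⟩ := hc
    have hcB : c ∈ centralizer (B i : Set G) := mem_cen fun b hb =>
      comm_of_odd hodd ((h.B_isPGroup i).to_le hCB) (h5 b hb) (cen_comm h3 (h5 b hb))
    have hcK := h.Z_le_K h2 hcB
    obtain ⟨k, hk⟩ := h.K_isPGroup ⟨c, hcK⟩
    have hk' : c ^ 2 ^ k = 1 := congrArg Subtype.val hk
    have h6 := orderOf_dvd_of_pow_eq_one hk'
    have h7 : Nat.Coprime (orderOf c) (2 ^ k) := (Nat.coprime_two_right.2 hodd).pow_right k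
    have h8 : orderOf c = 1 := Nat.dvd_one.1 (h7 ▸ Nat.dvd_gcd dvd_rfl h6)
    exact orderOf_eq_one_iff.1 h8
  have hTQ : T ≤ QQ (R i) := by
    refine le_O2_of_normal (fun x hx => hx.1) hT2 ?_
    rintro g hg x ⟨h1, h2, h3, h5⟩
    refine ⟨mul_mem (mul_mem hg h1) (inv_mem hg), ?_, ?_, fun b hb => ?_⟩
    · exact conj_mem_of_normalizer (normalizer_le_normalizer_centralizer _ (h.normA i hg)) h2
    · exact conj_mem_of_normalizer (normalizer_le_normalizer_centralizer _ (hCn hg)) h3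
    · have h6 := h5 _ (conj_inv_mem_of_normalizer (h.normB i hg) hb)
      have h7 := conj_mem_of_normalizer (hCn hg) h6
      have e : g * (x * (g⁻¹ * b * g) * x⁻¹ * (g⁻¹ * b * g)⁻¹) * g⁻¹ = g * x * g⁻¹ * b * (g * x * g⁻¹)⁻¹ * b⁻¹ := by
        group
      rwa [e] at h7
  exact hTQ ⟨hg1, hg2, hg3, hg4⟩

/-- **(3)** `C_{B j}(A j) = R j` -/
theorem Half.cenB [Finite G] (j : ι) {x : G} (hB : x ∈ B j) (hA : x ∈ centralizer (A j : Set G)) : x ∈ R j := by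
  have : Nonempty ι := ⟨j⟩
  obtain ⟨i, hi, -⟩ := h.third j j
  have hxV : x ∈ centralizer (V : Set G) := centralizer_le (h.V_le j) hA
  have hxU : x ∈ UB V B j := ⟨hB, hxV⟩
  -- `x` centralises `A i`
  have hxA : x ∈ centralizer (A i : Set G) := mem_cen fun a ha => by
    obtain ⟨k, hk, a', ha', rfl⟩ := h.A_le_KA i j ha
    have h1 : x * k = k * x := (cen_comm hk (UB_le_UT j hxU)).symm
    have h2 : x * a' = a' * x := cen_comm hA ha'
    calc x * (k * a') = x * k * a' := by group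
      _ = k * (x * a') := by rw [h1]; group
      _ = k * a' * x := by rw [h2]; group
  have hNC : normalizer (R i : Set G) ≤ normalizer ((B i ⊓ centralizer (A i : Set G) : Subgroup G) : Set G) := by
    intro g hg
    rw [← cj_eq_self_iff, cj_inf, cj_eq_self_iff.2 (h.normB i hg), ← centralizer_cj,
      cj_eq_self_iff.2 (h.normA i hg)]
  have hQ : x ∈ QQ (R i) := by
    refine h.stab_le i (C := B i ⊓ centralizer (A i : Set G)) inf_le_left hNC (h.C_le_NR i hxV) hxA ?_ ?_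
    · exact mem_cen fun c hc =>
        h.UB_comm j i hxU (mem_inf.2 ⟨hc.1, centralizer_le (h.V_le i) hc.2⟩)
    · intro b hb
      refine mem_inf.2 ⟨mul_mem (conj_mem_of_normalizer (h.C_le_NB i hxV) hb) (inv_mem hb), ?_⟩
      have e : x * b * x⁻¹ * b⁻¹ = x * (b * x⁻¹ * b⁻¹) := by group
      rw [e]
      exact mul_mem hxA (conj_mem_of_normalizer (normalizer_le_normalizer_centralizer _
        (h.normA i (h.B_le_NR i hb))) (inv_mem hxA))
  obtain ⟨b, hb, hbV⟩ := h.exists_b i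
  exact h.delta_R (Ne.symm hi) hb hbV hxU (comm_swap (h.QB i x hQ b hb))

section torus

variable (cA : ∀ i, ∀ a ∈ A i, a ∈ centralizer (B i : Set G) → a ∈ R i)
include cA

/-- **(4)** `C_{A i}(U i) = V` -/
theorem Half.cenAU {i : ι} {a : G} (ha : a ∈ A i) (hU : ∀ u ∈ UB V B i, a * u = u * a) : a ∈ V := by
  obtain ⟨v, hv, hc⟩ := h.fact i a (h.A_le_Q i ha) fun u hu hu' => hU u ⟨hu, hu'⟩
  have h1 := cA i _ (mul_mem (inv_mem (h.V_le i hv)) ha) hc
  have e : a = v * (v⁻¹ * a) := by group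
  rw [e]
  exact mul_mem hv (h.R_le i h1)

theorem Half.AK {i : ι} {a : G} (ha : a ∈ A i) (hK : a ∈ centralizer (UT V B : Set G)) : a ∈ V :=
  h.cenAU cA ha fun _ hu => cen_comm hK (UB_le_UT i hu)

theorem Half.VB {i : ι} {v : G} (hv : v ∈ V) (hc : v ∈ centralizer (B i : Set G)) : v ∈ R i :=
  cA i v (h.V_le i hv) hc

/-- `[A i, K] ≤ V` -/
theorem Half.AKV [Finite G] [Nonempty ι] {i : ι} {a k : G} (ha : a ∈ A i)
    (hk : k ∈ centralizer (UT V B : Set G)) : a * k * a⁻¹ * k⁻¹ ∈ V := by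
  have hkV := h.K_le_C hk
  have ha' : k * a * k⁻¹ ∈ A i := conj_mem_of_normalizer (h.C_le_NA i hkV) ha
  have h1 : (k * a * k⁻¹)⁻¹ * a ∈ V := by
    refine h.cenAU cA (mul_mem (inv_mem ha') ha) fun u hu => ?_
    -- `[k a k⁻¹, u] = [a, u]`
    have hku : k⁻¹ * u * k = u := by
      have := cen_comm hk (UB_le_UT i hu)
      calc k⁻¹ * u * k = k⁻¹ * (u * k) := by group
        _ = k⁻¹ * (k * u) := by rw [this]
        _ = u := by group
    have hr : k * (a * u * a⁻¹ * u⁻¹) * k⁻¹ = a * u * a⁻¹ * u⁻¹ :=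
      conj_of_comm (cen_comm hkV (h.R_le i (h.AU ha hu)))
    have h2 : u * a * u⁻¹ * a⁻¹ = u * (k * a * k⁻¹) * u⁻¹ * (k * a * k⁻¹)⁻¹ := by
      have e1 : (u * a * u⁻¹ * a⁻¹)⁻¹ = (u * (k * a * k⁻¹) * u⁻¹ * (k * a * k⁻¹)⁻¹)⁻¹ := by
        calc (u * a * u⁻¹ * a⁻¹)⁻¹ = a * u * a⁻¹ * u⁻¹ := by group
          _ = k * (a * u * a⁻¹ * u⁻¹) * k⁻¹ := hr.symm
          _ = k * (a * (k⁻¹ * u * k) * a⁻¹ * (k⁻¹ * u * k)⁻¹) * k⁻¹ := by rw [hku]
          _ = (u * (k * a * k⁻¹) * u⁻¹ * (k * a * k⁻¹)⁻¹)⁻¹ := by group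
      exact inv_injective e1
    exact (comm_of_eq h2).symm
  have e : a * k * a⁻¹ * k⁻¹ = a * ((k * a * k⁻¹)⁻¹ * a) * a⁻¹ := by group
  rw [e]
  rw [conj_of_comm (cen_comm (h.A_le_C i ha) h1)]
  exact h1

variable {i j : ι} (hij : i ≠ j) {t : G} (ht : t ∈ XB B) (hti : t ∈ normalizer (R i : Set G))
  (htj : t ∈ normalizer (R j : Set G)) (hfi : ∀ r ∈ R i, t * r = r * t → r = 1)
  (hfj : ∀ r ∈ R j, t * r = r * t → r = 1)

omit cA in
include hij hti htj hfj in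
/-- `v ∈ V`, `[t, v] ∈ R i` implies `v ∈ R i` -/
theorem Half.t_R {v : G} (hv : v ∈ V) (e : t * v * t⁻¹ * v⁻¹ ∈ R i) : v ∈ R i := by
  obtain ⟨r, hr, s, hs, rfl⟩ := h.exists_mul hij hv
  have h1 : t * r * t⁻¹ * r⁻¹ ∈ R i := mul_mem (conj_mem_of_normalizer hti hr) (inv_mem hr)
  have h2 : t * s * t⁻¹ * s⁻¹ ∈ R j := mul_mem (conj_mem_of_normalizer htj hs) (inv_mem hs)
  have h3 : r * (t * s * t⁻¹ * s⁻¹) * r⁻¹ = t * s * t⁻¹ * s⁻¹ :=
    conj_of_comm (h.V_comm i (h.R_le i hr) (h.R_le j h2))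
  have h4 : t * (r * s) * t⁻¹ * (r * s)⁻¹ = (t * r * t⁻¹ * r⁻¹) * (t * s * t⁻¹ * s⁻¹) := by
    rw [← h3]; group
  have h5 : t * s * t⁻¹ * s⁻¹ ∈ R i := by
    rw [h4] at e
    have e2 : t * s * t⁻¹ * s⁻¹ = (t * r * t⁻¹ * r⁻¹)⁻¹ * ((t * r * t⁻¹ * r⁻¹) * (t * s * t⁻¹ * s⁻¹)) := by group
    rw [e2]
    exact mul_mem (inv_mem h1) e
  have h6 := h.eq_one hij h5 h2
  rw [mul_inv_eq_one] at h6
  rw [hfj s hs (comm_of_conj h6), mul_one]
  exact hr

omit cA in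
include hij hti htj hfi hfj in
theorem Half.t_V {v : G} (hv : v ∈ V) (e : t * v = v * t) : v = 1 := by
  refine hfi v (h.t_R hij hti htj hfj hv ?_) e
  rw [e]
  have e2 : v * t * t⁻¹ * v⁻¹ = 1 := by group
  rw [e2]
  exact one_mem _

include ht hti in
/-- `[t, A i] ≤ V` -/
theorem Half.t_A [Finite G] {a : G} (ha : a ∈ A i) : t * a * t⁻¹ * a⁻¹ ∈ V :=
  h.AK cA (mul_mem (conj_mem_of_normalizer (h.normA i hti) ha) (inv_mem ha)) (comm_swap (h.AX_mem ha ht))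

include ht hti hfi in
/-- `C_{U i}(t) = 1` -/
theorem Half.t_U [Finite G] {u : G} (hu : u ∈ UB V B i) (e : t * u = u * t) : u = 1 := by
  refine hfi u (h.cenB i hu.1 (mem_cen fun a ha => ?_)) e
  have h1 := h.AU ha hu
  have hv := h.t_A cA ht hti ha
  have h2 : t * (a * u * a⁻¹ * u⁻¹) * t⁻¹ = a * u * a⁻¹ * u⁻¹ := by
    set v := t * a * t⁻¹ * a⁻¹ with hvd
    have e1 : t * a * t⁻¹ = v * a := by rw [hvd]; group
    have e2 : t * u * t⁻¹ = u := conj_of_comm e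
    have e3 : v * (a * u * a⁻¹ * u⁻¹) = (a * u * a⁻¹ * u⁻¹) * v := h.V_comm i hv (h.R_le i h1)
    have e4 : u * v⁻¹ = v⁻¹ * u := cen_comm (UB_le_cen i hu) (inv_mem hv)
    calc t * (a * u * a⁻¹ * u⁻¹) * t⁻¹
        = (t * a * t⁻¹) * (t * u * t⁻¹) * (t * a * t⁻¹)⁻¹ * (t * u * t⁻¹)⁻¹ := by group
      _ = (v * a) * u * (v * a)⁻¹ * u⁻¹ := by rw [e1, e2]
      _ = v * (a * u * a⁻¹ * u⁻¹) * (u * v⁻¹) * u⁻¹ := by group
      _ = (a * u * a⁻¹ * u⁻¹) * v * (v⁻¹ * u) * u⁻¹ := by rw [e3, e4]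
      _ = a * u * a⁻¹ * u⁻¹ := by group
  have h3 := hfi _ h1 (comm_of_conj h2)
  rw [mul_inv_eq_one] at h3
  exact (comm_of_conj h3).symm

include hij ht hti htj hfi hfj in
/-- `C_U(t) = 1` -/
theorem Half.t_UT [Finite G] {x : G} (hx : x ∈ UT V B) (e : t * x = x * t) : x = 1 := by
  obtain ⟨u, hu, c, hc, rfl⟩ := h.mem_UT (Ne.symm hij) hx
  have htV := h.X_le_NV ht
  have hu' : t * u * t⁻¹ ∈ UB V B i := by
    rw [← h.conjU htV (cj_eq_self_iff.2 hti)]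
    exact conj_mem_cj hu
  have hc' : t * c * t⁻¹ ∈ UB V B j := by
    rw [← h.conjU htV (cj_eq_self_iff.2 htj)]
    exact conj_mem_cj hc
  have e1 : (t * u * t⁻¹) * (t * c * t⁻¹) = u * c := by
    have := conj_of_comm e
    rw [← this]; group
  have e2 : u⁻¹ * (t * u * t⁻¹) = c * (t * c * t⁻¹)⁻¹ := by
    calc u⁻¹ * (t * u * t⁻¹) = u⁻¹ * ((t * u * t⁻¹) * (t * c * t⁻¹)) * (t * c * t⁻¹)⁻¹ := by group
      _ = u⁻¹ * (u * c) * (t * c * t⁻¹)⁻¹ := by rw [e1]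
      _ = c * (t * c * t⁻¹)⁻¹ := by group
  have e3 : u⁻¹ * (t * u * t⁻¹) = 1 := by
    refine h.B_inf hij (mul_mem (inv_mem hu.1) hu'.1) ?_
    rw [e2]
    exact mul_mem hc.1 (inv_mem hc'.1)
  have e4 : c * (t * c * t⁻¹)⁻¹ = 1 := by rw [← e2]; exact e3
  have e5 : t * u = u * t := comm_of_conj (inv_mul_eq_one.1 e3).symm
  have e6 : t * c = c * t := comm_of_conj (mul_inv_eq_one.1 e4).symm
  rw [h.t_U cA ht hti hfi hu e5, h.t_U cA ht htj hfj hc e6, one_mul]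

include hij ht hti htj hfi hfj in
/-- **(6)** `k ∈ C_K(t)` centralises `B i` -/
theorem Half.t_K_aux [Finite G] {k : G} (hk : k ∈ centralizer (UT V B : Set G)) (e : t * k = k * t) :
    k ∈ centralizer (B i : Set G) := by
  have : Nonempty ι := ⟨i⟩
  have hkV := h.K_le_C hk
  -- `k` centralises `A i`
  have hkA : k ∈ centralizer (A i : Set G) := mem_cen fun a ha => by
    have h1 := h.AKV cA ha hk
    have hv := h.t_A cA ht hti ha
    have h2 : t * (a * k * a⁻¹ * k⁻¹) * t⁻¹ = a * k * a⁻¹ * k⁻¹ := by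
      set v := t * a * t⁻¹ * a⁻¹ with hvd
      have e1 : t * a * t⁻¹ = v * a := by rw [hvd]; group
      have e2 : t * k * t⁻¹ = k := conj_of_comm e
      have e3 : v * (a * k * a⁻¹ * k⁻¹) = (a * k * a⁻¹ * k⁻¹) * v := h.V_comm i hv h1
      have e4 : k * v⁻¹ = v⁻¹ * k := cen_comm hkV (inv_mem hv)
      calc t * (a * k * a⁻¹ * k⁻¹) * t⁻¹
          = (t * a * t⁻¹) * (t * k * t⁻¹) * (t * a * t⁻¹)⁻¹ * (t * k * t⁻¹)⁻¹ := by group
        _ = (v * a) * k * (v * a)⁻¹ * k⁻¹ := by rw [e1, e2]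
        _ = v * (a * k * a⁻¹ * k⁻¹) * (k * v⁻¹) * k⁻¹ := by group
        _ = (a * k * a⁻¹ * k⁻¹) * v * (v⁻¹ * k) * k⁻¹ := by rw [e3, e4]
        _ = a * k * a⁻¹ * k⁻¹ := by group
    have h3 := h.t_V hij hti htj hfi hfj h1 (comm_of_conj h2)
    rw [mul_inv_eq_one] at h3
    exact (comm_of_conj h3).symm
  -- `[k, B i] ≤ R i`
  have hkB : ∀ b ∈ B i, k * b * k⁻¹ * b⁻¹ ∈ R i := by
    intro b hb
    refine h.cenB i (h.KB hk hb).1 ?_
    have e : k * b * k⁻¹ * b⁻¹ = k * (b * k⁻¹ * b⁻¹) := by group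
    rw [e]
    exact mul_mem hkA (conj_mem_of_normalizer (normalizer_le_normalizer_centralizer _
        (h.normA i (h.B_le_NR i hb))) (inv_mem hkA))
  have hkQ : k ∈ QQ (R i) := h.stab_le i (h.R_le_B i) le_rfl (h.C_le_NR i hkV) hkA
    (centralizer_le (h.R_le i) hkV) hkB
  obtain ⟨v, hv, hc⟩ := h.fact i k hkQ fun u hu hu' => cen_comm hk (UB_le_UT i ⟨hu, hu'⟩)
  -- `v ∈ R i`
  have htC := normalizer_le_normalizer_centralizer _ (h.normB i hti)
  have h1 := mul_mem hc (inv_mem (conj_mem_of_normalizer htC hc))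
  have e2 : t * k * t⁻¹ = k := conj_of_comm e
  have h2 : v⁻¹ * k * (t * (v⁻¹ * k) * t⁻¹)⁻¹ = v⁻¹ * (t * v * t⁻¹) := by
    calc v⁻¹ * k * (t * (v⁻¹ * k) * t⁻¹)⁻¹ = v⁻¹ * k * (t * k * t⁻¹)⁻¹ * (t * v * t⁻¹) := by group
      _ = v⁻¹ * (t * v * t⁻¹) := by rw [e2]; group
  rw [h2] at h1
  have htv : t * v * t⁻¹ ∈ V := conj_mem_of_normalizer (h.X_le_NV ht) hv
  have h3 := h.VB cA (mul_mem (inv_mem hv) htv) h1
  rw [h.V_comm i (inv_mem hv) htv] at h3
  have hvR := h.t_R hij hti htj hfj hv h3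
  refine mem_cen fun b hb => ?_
  have h4 : v * b = b * v := h.B_comm i v (h.R_le_B i hvR) b hb
  have h5 : v⁻¹ * k * b = b * (v⁻¹ * k) := cen_comm hc hb
  calc k * b = v * (v⁻¹ * k * b) := by group
    _ = (v * b) * (v⁻¹ * k) := by rw [h5]; group
    _ = b * k := by rw [h4]; group

include hij ht hti htj hfi hfj in
theorem Half.t_K [Finite G] {k : G} (hk : k ∈ centralizer (UT V B : Set G)) (e : t * k = k * t) : k = 1 :=
  h.eq_one_of_cen hij (h.t_K_aux cA hij ht hti htj hfi hfj hk e)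
    (h.t_K_aux cA (Ne.symm hij) ht htj hti hfj hfi hk e)

omit h cA in
/-- a fixed point free automorphism of a finite abelian group: all elements are commutators -/
theorem exists_comm_eq [Finite G] {U : Subgroup G} {t : G}
    (htU : t ∈ normalizer (U : Set G)) (hf : ∀ x ∈ U, t * x = x * t → x = 1) {y : G} (hy : y ∈ U) :
    ∃ x ∈ U, t * x * t⁻¹ * x⁻¹ = y := by
  let f : U → U := fun x => ⟨t * x * t⁻¹ * (x : G)⁻¹, mul_mem (conj_mem_of_normalizer htU x.2) (inv_mem x.2)⟩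
  have hfi : Function.Injective f := by
    intro x z hxz
    have h1 : t * x * t⁻¹ * (x : G)⁻¹ = t * z * t⁻¹ * (z : G)⁻¹ := congrArg Subtype.val hxz
    have h2 := hf _ (mul_mem (inv_mem z.2) x.2) (comm_of_eq h1)
    exact Subtype.ext (inv_mul_eq_one.1 h2).symm
  obtain ⟨x, hx⟩ := Finite.surjective_of_injective hfi ⟨y, hy⟩
  exact ⟨x, x.2, congrArg Subtype.val hx⟩

include hij ht hti htj hfi hfj in
/-- **(6)** `K = U` -/
theorem Half.K_le_UT [Finite G] {k : G} (hk : k ∈ centralizer (UT V B : Set G)) : k ∈ UT V B := by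
  have : Nonempty ι := ⟨i⟩
  have h1 := h.KX hk ht
  obtain ⟨u, hu, e⟩ := exists_comm_eq (h.NV_le_NUT (h.X_le_NV ht))
    (fun x hx e => h.t_UT cA hij ht hti htj hfi hfj hx e) (inv_mem h1)
  have h2 : k * u ∈ centralizer (UT V B : Set G) := mul_mem hk (h.UT_le_K hu)
  have h3 : t * (k * u) * t⁻¹ = k * u := by
    have e1 : k * (t * u * t⁻¹ * u⁻¹) = (t * u * t⁻¹ * u⁻¹) * k := by
      rw [e]; exact cen_comm hk (inv_mem h1)
    calc t * (k * u) * t⁻¹ = (t * k * t⁻¹ * k⁻¹) * (k * (t * u * t⁻¹ * u⁻¹)) * u := by group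
      _ = (t * k * t⁻¹ * k⁻¹) * ((t * u * t⁻¹ * u⁻¹) * k) * u := by rw [e1]
      _ = k * u := by rw [e]; group
  have h4 := h.t_K cA hij ht hti htj hfi hfj h2 (comm_of_conj h3)
  rw [mul_eq_one_iff_eq_inv] at h4
  rw [h4]
  exact inv_mem hu

include hij ht hti htj hfi hfj in
/-- `a = a₀ v`, `a₀ ∈ C_{A i}(t)` -/
theorem Half.A_split [Finite G] {a : G} (ha : a ∈ A i) :
    ∃ v ∈ V, t * (a * v) = a * v * t := by
  have h1 := h.t_A cA ht hti ha
  obtain ⟨v, hv, e⟩ := exists_comm_eq (h.X_le_NV ht)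
    (fun x hx e => h.t_V hij hti htj hfi hfj hx e) (inv_mem h1)
  refine ⟨v, hv, comm_of_conj ?_⟩
  have h2 : t * v * t⁻¹ * v⁻¹ ∈ V := by rw [e]; exact inv_mem h1
  have e1 : a * (t * v * t⁻¹ * v⁻¹) = (t * v * t⁻¹ * v⁻¹) * a := cen_comm (h.A_le_C i ha) h2
  calc t * (a * v) * t⁻¹ = (t * a * t⁻¹ * a⁻¹) * (a * (t * v * t⁻¹ * v⁻¹)) * v := by group
    _ = (t * a * t⁻¹ * a⁻¹) * ((t * v * t⁻¹ * v⁻¹) * a) * v := by rw [e1]
    _ = a * v := by rw [e]; group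

include hij ht hti htj hfi hfj in
/-- **(7)** `A i ≤ A j` -/
theorem Half.A_le [Finite G] : A i ≤ A j := by
  have : Nonempty ι := ⟨i⟩
  intro a ha
  obtain ⟨v, hv, e⟩ := h.A_split cA hij ht hti htj hfi hfj ha
  obtain ⟨k, hk, a', ha', e2⟩ := h.A_le_KA i j (mul_mem ha (h.V_le i hv))
  obtain ⟨v', hv', e'⟩ := h.A_split cA (Ne.symm hij) ht htj hti hfj hfi ha'
  have hkU := h.K_le_UT cA hij ht hti htj hfi hfj hk
  have h1 : k * v'⁻¹ ∈ UT V B := mul_mem hkU (inv_mem (h.V_le_UT hv'))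
  have h2 : k * v'⁻¹ = (a * v) * (a' * v')⁻¹ := by
    have h3 : v' * a'⁻¹ = a'⁻¹ * v' := h.A_comm j v' (h.V_le j hv') a'⁻¹ (inv_mem ha')
    calc k * v'⁻¹ = k * (a' * (v' * a'⁻¹) * v'⁻¹) * v'⁻¹ := by rw [h3]; group
      _ = (k * a') * (v' * a'⁻¹) * v'⁻¹ * v'⁻¹ := by group
      _ = (k * a') * (a'⁻¹ * v') * v'⁻¹ * v'⁻¹ := by rw [h3]
      _ = (k * a') * (v'⁻¹ * a'⁻¹) := by
        have h4 : v'⁻¹ * a'⁻¹ = a'⁻¹ * v'⁻¹ :=
          h.A_comm j _ (inv_mem (h.V_le j hv')) _ (inv_mem ha')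
        rw [h4]; group
      _ = (a * v) * (a' * v')⁻¹ := by rw [← e2]; group
  have h3 : t * (k * v'⁻¹) = k * v'⁻¹ * t := by
    rw [h2]
    have c1 : Commute t (a * v) := e
    have c2 : Commute t (a' * v') := e'
    exact (c1.mul_right c2.inv_right)
  have h4 := h.t_UT cA hij ht hti htj hfi hfj h1 h3
  have h5 : a * v = a' * v' := by
    rw [h2, mul_inv_eq_one] at h4
    exact h4
  have e3 : a = (a' * v') * v⁻¹ := by rw [← h5]; group
  rw [e3]
  exact mul_mem (mul_mem ha' (h.V_le j hv')) (inv_mem (h.V_le j hv))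

include hij ht hti htj hfi hfj in
/-- **THEOREM AB, abstract form**: all the `A k` are equal -/
theorem Half.A_eq [Finite G] (k l : ι) : A k = A l := by
  have h1 : A i = A j := le_antisymm (h.A_le cA hij ht hti htj hfi hfj)
    (h.A_le cA (Ne.symm hij) ht htj hti hfj hfi)
  have key : ∀ k, A k = A i := by
    intro k
    by_cases hki : k = i
    · rw [hki]
    obtain ⟨b, hb, e⟩ := h.trans i j k (Ne.symm hij) hki
    have h2 := h.conjA b (h.B_le_NV i hb) j k e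
    rw [← h1, cj_eq_self_iff.2 (h.normA i (h.B_le_NR i hb))] at h2
    exact h2.symm
  rw [key k, key l]

include hij ht hti htj hfi hfj in
/-- `A k` is normal in `N(V)` and in `N(R l)` -/
theorem Half.A_normal [Finite G] (k : ι) :
    normalizer (V : Set G) ≤ normalizer (A k : Set G) ∧
      ∀ l, normalizer (R l : Set G) ≤ normalizer (A k : Set G) := by
  refine ⟨fun g hg => ?_, fun l => ?_⟩
  · obtain ⟨m, hm⟩ := h.perm g hg k
    rw [← cj_eq_self_iff, h.conjA g hg k m hm]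
    exact h.A_eq cA hij ht hti htj hfi hfj m k
  · rw [h.A_eq cA hij ht hti htj hfi hfj k l]
    exact h.normA l

end torus

end Cfsg.Agent.Omega.AB
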